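import Cfsg.Agent.Lib.CosetTable.Sound
import Cfsg.Agent.Lib.CosetTable.Fi23m.Data

/-! Generated certificate data for the coset table `Fi23m`. -/

namespace Cfsg.Agent.Lib.CosetTable.Fi23m

open Cfsg.Agent.Lib.CosetTable

set_option Elab.async false
set_option maxRecDepth 10000

theorem fix_ok_run83 : rangeAll (tab.fixOK cert.rels) 128 10496 = true := by decide +kernel

theorem fix_ok_run84 : rangeAll (tab.fixOK cert.rels) 128 10624 = true := by decide +kernel

theorem fix_ok_run85 : rangeAll (tab.fixOK cert.rels) 128 10752 = true := by decide +kernel

theorem fix_ok_run86 : rangeAll (tab.fixOK cert.rels) 128 10880 = true := by decide +kernel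

theorem fix_ok_run87 : rangeAll (tab.fixOK cert.rels) 128 11008 = true := by decide +kernel

theorem fix_ok_run88 : rangeAll (tab.fixOK cert.rels) 128 11136 = true := by decide +kernel

theorem fix_ok_run89 : rangeAll (tab.fixOK cert.rels) 128 11264 = true := by decide +kernel

theorem fix_ok_run90 : rangeAll (tab.fixOK cert.rels) 128 11392 = true := by decide +kernel

theorem fix_ok_run91 : rangeAll (tab.fixOK cert.rels) 128 11520 = true := by decide +kernel

theorem fix_ok_run92 : rangeAll (tab.fixOK cert.rels) 128 11648 = true := by decide +kernel

theorem fix_ok_run93 : rangeAll (tab.fixOK cert.rels) 128 11776 = true := by decide +kernel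

theorem fix_ok_run94 : rangeAll (tab.fixOK cert.rels) 128 11904 = true := by decide +kernel

theorem fix_ok_run95 : rangeAll (tab.fixOK cert.rels) 128 12032 = true := by decide +kernel

theorem fix_ok_run96 : rangeAll (tab.fixOK cert.rels) 128 12160 = true := by decide +kernel

theorem fix_ok_run97 : rangeAll (tab.fixOK cert.rels) 128 12288 = true := by decide +kernel

theorem fix_ok_run98 : rangeAll (tab.fixOK cert.rels) 128 12416 = true := by decide +kernel

theorem fix_ok_run99 : rangeAll (tab.fixOK cert.rels) 128 12544 = true := by decide +kernel

theorem fix_ok_run100 : rangeAll (tab.fixOK cert.rels) 128 12672 = true := by decide +kernel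

theorem fix_ok_run101 : rangeAll (tab.fixOK cert.rels) 128 12800 = true := by decide +kernel

theorem fix_ok_run102 : rangeAll (tab.fixOK cert.rels) 128 12928 = true := by decide +kernel

theorem fix_ok_run103 : rangeAll (tab.fixOK cert.rels) 128 13056 = true := by decide +kernel

theorem fix_ok_run104 : rangeAll (tab.fixOK cert.rels) 128 13184 = true := by decide +kernel

theorem fix_ok_run105 : rangeAll (tab.fixOK cert.rels) 128 13312 = true := by decide +kernel

theorem fix_ok_run106 : rangeAll (tab.fixOK cert.rels) 128 13440 = true := by decide +kernel

theorem fix_ok_run107 : rangeAll (tab.fixOK cert.rels) 128 13568 = true := by decide +kernel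

theorem fix_ok_run108 : rangeAll (tab.fixOK cert.rels) 128 13696 = true := by decide +kernel

theorem fix_ok_run109 : rangeAll (tab.fixOK cert.rels) 128 13824 = true := by decide +kernel

theorem fix_ok_run110 : rangeAll (tab.fixOK cert.rels) 128 13952 = true := by decide +kernel

theorem fix_ok_run111 : rangeAll (tab.fixOK cert.rels) 128 14080 = true := by decide +kernel

theorem fix_ok_run112 : rangeAll (tab.fixOK cert.rels) 128 14208 = true := by decide +kernel

theorem fix_ok_run113 : rangeAll (tab.fixOK cert.rels) 128 14336 = true := by decide +kernel

theorem fix_ok_run114 : rangeAll (tab.fixOK cert.rels) 128 14464 = true := by decide +kernel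

theorem fix_ok_run115 : rangeAll (tab.fixOK cert.rels) 128 14592 = true := by decide +kernel

theorem fix_ok_run116 : rangeAll (tab.fixOK cert.rels) 128 14720 = true := by decide +kernel

theorem fix_ok_run117 : rangeAll (tab.fixOK cert.rels) 128 14848 = true := by decide +kernel

theorem fix_ok_run118 : rangeAll (tab.fixOK cert.rels) 128 14976 = true := by decide +kernel

theorem fix_ok_run119 : rangeAll (tab.fixOK cert.rels) 128 15104 = true := by decide +kernel

theorem fix_ok_run120 : rangeAll (tab.fixOK cert.rels) 128 15232 = true := by decide +kernel

theorem fix_ok_run121 : rangeAll (tab.fixOK cert.rels) 128 15360 = true := by decide +kernel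

theorem fix_ok_run122 : rangeAll (tab.fixOK cert.rels) 128 15488 = true := by decide +kernel

theorem fix_ok_run123 : rangeAll (tab.fixOK cert.rels) 128 15616 = true := by decide +kernel

theorem fix_ok_run124 : rangeAll (tab.fixOK cert.rels) 128 15744 = true := by decide +kernel

theorem fix_ok_run125 : rangeAll (tab.fixOK cert.rels) 128 15872 = true := by decide +kernel

theorem fix_ok_run126 : rangeAll (tab.fixOK cert.rels) 128 16000 = true := by decide +kernel

theorem fix_ok_run127 : rangeAll (tab.fixOK cert.rels) 128 16128 = true := by decide +kernel

theorem fix_ok_run128 : rangeAll (tab.fixOK cert.rels) 128 16256 = true := by decide +kernel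

theorem fix_ok_run129 : rangeAll (tab.fixOK cert.rels) 128 16384 = true := by decide +kernel

theorem fix_ok_run130 : rangeAll (tab.fixOK cert.rels) 128 16512 = true := by decide +kernel

theorem fix_ok_run131 : rangeAll (tab.fixOK cert.rels) 128 16640 = true := by decide +kernel

theorem fix_ok_run132 : rangeAll (tab.fixOK cert.rels) 128 16768 = true := by decide +kernel

theorem fix_ok_run133 : rangeAll (tab.fixOK cert.rels) 128 16896 = true := by decide +kernel

theorem fix_ok_run134 : rangeAll (tab.fixOK cert.rels) 128 17024 = true := by decide +kernel

theorem fix_ok_run135 : rangeAll (tab.fixOK cert.rels) 128 17152 = true := by decide +kernel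

theorem fix_ok_run136 : rangeAll (tab.fixOK cert.rels) 128 17280 = true := by decide +kernel

theorem fix_ok_run137 : rangeAll (tab.fixOK cert.rels) 128 17408 = true := by decide +kernel

theorem fix_ok_run138 : rangeAll (tab.fixOK cert.rels) 128 17536 = true := by decide +kernel

theorem fix_ok_run139 : rangeAll (tab.fixOK cert.rels) 128 17664 = true := by decide +kernel

theorem fix_ok_run140 : rangeAll (tab.fixOK cert.rels) 128 17792 = true := by decide +kernel

theorem fix_ok_run141 : rangeAll (tab.fixOK cert.rels) 128 17920 = true := by decide +kernel

theorem fix_ok_run142 : rangeAll (tab.fixOK cert.rels) 128 18048 = true := by decide +kernel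

theorem fix_ok_run143 : rangeAll (tab.fixOK cert.rels) 128 18176 = true := by decide +kernel

theorem fix_ok_run144 : rangeAll (tab.fixOK cert.rels) 128 18304 = true := by decide +kernel

theorem fix_ok_run145 : rangeAll (tab.fixOK cert.rels) 128 18432 = true := by decide +kernel

theorem fix_ok_run146 : rangeAll (tab.fixOK cert.rels) 128 18560 = true := by decide +kernel

theorem fix_ok_run147 : rangeAll (tab.fixOK cert.rels) 128 18688 = true := by decide +kernel

theorem fix_ok_run148 : rangeAll (tab.fixOK cert.rels) 128 18816 = true := by decide +kernel

theorem fix_ok_run149 : rangeAll (tab.fixOK cert.rels) 128 18944 = true := by decide +kernel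

theorem fix_ok_run150 : rangeAll (tab.fixOK cert.rels) 128 19072 = true := by decide +kernel

theorem fix_ok_run151 : rangeAll (tab.fixOK cert.rels) 128 19200 = true := by decide +kernel

theorem fix_ok_run152 : rangeAll (tab.fixOK cert.rels) 128 19328 = true := by decide +kernel

theorem fix_ok_run153 : rangeAll (tab.fixOK cert.rels) 128 19456 = true := by decide +kernel

theorem fix_ok_run154 : rangeAll (tab.fixOK cert.rels) 128 19584 = true := by decide +kernel

theorem fix_ok_run155 : rangeAll (tab.fixOK cert.rels) 128 19712 = true := by decide +kernel

theorem fix_ok_run156 : rangeAll (tab.fixOK cert.rels) 128 19840 = true := by decide +kernel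

theorem fix_ok_run157 : rangeAll (tab.fixOK cert.rels) 128 19968 = true := by decide +kernel

theorem fix_ok_run158 : rangeAll (tab.fixOK cert.rels) 128 20096 = true := by decide +kernel

theorem fix_ok_run159 : rangeAll (tab.fixOK cert.rels) 128 20224 = true := by decide +kernel

theorem fix_ok_run160 : rangeAll (tab.fixOK cert.rels) 128 20352 = true := by decide +kernel

theorem fix_ok_run161 : rangeAll (tab.fixOK cert.rels) 128 20480 = true := by decide +kernel

theorem fix_ok_run162 : rangeAll (tab.fixOK cert.rels) 128 20608 = true := by decide +kernel

theorem fix_ok_run163 : rangeAll (tab.fixOK cert.rels) 128 20736 = true := by decide +kernel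

theorem fix_ok_run164 : rangeAll (tab.fixOK cert.rels) 128 20864 = true := by decide +kernel

theorem fix_ok_run165 : rangeAll (tab.fixOK cert.rels) 128 20992 = true := by decide +kernel

end Cfsg.Agent.Lib.CosetTable.Fi23m
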