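import Cfsg.Agent.Lib.CosetTable.Fi23m.RowsOK
import Cfsg.Agent.Lib.CosetTable.Fi23m.FixOK1
import Cfsg.Agent.Lib.CosetTable.Fi23m.FixOK2
import Cfsg.Agent.Lib.CosetTable.Fi23m.FixOK3

/-! Generated certificate data for the coset table `Fi23m`. -/

namespace Cfsg.Agent.Lib.CosetTable.Fi23m

open Cfsg.Agent.Lib.CosetTable

theorem fix_ok : Below (tab.fixOK cert.rels) 31671 :=
  ((((((((((((((((((((((((((((((((((((((((((((((((((((((((((((((((((((((((((((((((((((((((((((((((((((((((((((((((((((((((((((((((((((((((((((((((((((((((((((((((((((((((((((((((((((((((((((((((((((((((((((((((((((((((((((((((((((((((((((((((((((((((Below.zero _).step (b := 128) fix_ok_run1 rfl).step (b := 256) fix_ok_run2 rfl).step (b := 384) fix_ok_run3 rfl).step (b := 512) fix_ok_run4 rfl).step (b := 640) fix_ok_run5 rfl).step (b := 768) fix_ok_run6 rfl).step (b := 896) fix_ok_run7 rfl).step (b := 1024) fix_ok_run8 rfl).step (b := 1152) fix_ok_run9 rfl).step (b := 1280) fix_ok_run10 rfl).step (b := 1408) fix_ok_run11 rfl).step (b := 1536) fix_ok_run12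 rfl).step (b := 1664) fix_ok_run13 rfl).step (b := 1792) fix_ok_run14 rfl).step (b := 1920) fix_ok_run15 rfl).step (b := 2048) fix_ok_run16 rfl).step (b := 2176) fix_ok_run17 rfl).step (b := 2304) fix_ok_run18 rfl).step (b := 2432) fix_ok_run19 rfl).step (b := 2560) fix_ok_run20 rfl).step (b := 2688) fix_ok_run21 rfl).step (b := 2816) fix_ok_run22 rfl).step (b := 2944) fix_ok_run23 rfl).step (b := 3072) fix_ok_run24 rfl).step (b := 3200) fix_ok_run25 rfl).step (b := 3328) fix_ok_run26 rfl).step (b := 3456) fix_ok_run27 rfl).step (b := 3584) fix_ok_run28 rfl).step (b := 3712) fix_ok_run29 rfl).step (b := 3840) fix_ok_run30 rfl).step (b := 3968) fix_ok_run31 rfl).step (b := 4096) fix_ok_run32 rfl).step (b := 4224) fix_ok_run33 rfl).step (b := 4352) fix_ok_run34 rfl).step (b := 4480) fix_ok_run35 rfl).step (b := 4608) fix_ok_run36 rfl).step (b := 4736) fix_ok_run37 rfl).step (b := 4864) fix_ok_run38 rfl).step (b := 4992) fix_ok_run39 rfl).step (b := 5120) fix_ok_run40 rfl).step (b := 5248) fix_ok_run41 rfl).step (b := 5376)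 fix_ok_run42 rfl).step (b := 5504) fix_ok_run43 rfl).step (b := 5632) fix_ok_run44 rfl).step (b := 5760) fix_ok_run45 rfl).step (b := 5888) fix_ok_run46 rfl).step (b := 6016) fix_ok_run47 rfl).step (b := 6144) fix_ok_run48 rfl).step (b := 6272) fix_ok_run49 rfl).step (b := 6400) fix_ok_run50 rfl).step (b := 6528) fix_ok_run51 rfl).step (b := 6656) fix_ok_run52 rfl).step (b := 6784) fix_ok_run53 rfl).step (b := 6912) fix_ok_run54 rfl).step (b := 7040) fix_ok_run55 rfl).step (b := 7168) fix_ok_run56 rfl).step (b := 7296) fix_ok_run57 rfl).step (b := 7424) fix_ok_run58 rfl).step (b := 7552) fix_ok_run59 rfl).step (b := 7680) fix_ok_run60 rfl).step (b := 7808) fix_ok_run61 rfl).step (b := 7936) fix_ok_run62 rfl).step (b := 8064) fix_ok_run63 rfl).step (b := 8192) fix_ok_run64 rfl).step (b := 8320) fix_ok_run65 rfl).step (b := 8448) fix_ok_run66 rfl).step (b := 8576) fix_ok_run67 rfl).step (b := 8704) fix_ok_run68 rfl).step (b := 8832) fix_ok_run69 rfl).step (b := 8960) fix_ok_run70 rfl).step (b := 9088) fix_ok_run71 rfl).step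 (b := 9216) fix_ok_run72 rfl).step (b := 9344) fix_ok_run73 rfl).step (b := 9472) fix_ok_run74 rfl).step (b := 9600) fix_ok_run75 rfl).step (b := 9728) fix_ok_run76 rfl).step (b := 9856) fix_ok_run77 rfl).step (b := 9984) fix_ok_run78 rfl).step (b := 10112) fix_ok_run79 rfl).step (b := 10240) fix_ok_run80 rfl).step (b := 10368) fix_ok_run81 rfl).step (b := 10496) fix_ok_run82 rfl).step (b := 10624) fix_ok_run83 rfl).step (b := 10752) fix_ok_run84 rfl).step (b := 10880) fix_ok_run85 rfl).step (b := 11008) fix_ok_run86 rfl).step (b := 11136) fix_ok_run87 rfl).step (b := 11264) fix_ok_run88 rfl).step (b := 11392) fix_ok_run89 rfl).step (b := 11520) fix_ok_run90 rfl).step (b := 11648) fix_ok_run91 rfl).step (b := 11776) fix_ok_run92 rfl).step (b := 11904) fix_ok_run93 rfl).step (b := 12032) fix_ok_run94 rfl).step (b := 12160) fix_ok_run95 rfl).step (b := 12288) fix_ok_run96 rfl).step (b := 12416) fix_ok_run97 rfl).step (b := 12544) fix_ok_run98 rfl).step (b := 12672) fix_ok_run99 rfl).step (b := 12800) fix_ok_run100 rfl).step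 (b := 12928) fix_ok_run101 rfl).step (b := 13056) fix_ok_run102 rfl).step (b := 13184) fix_ok_run103 rfl).step (b := 13312) fix_ok_run104 rfl).step (b := 13440) fix_ok_run105 rfl).step (b := 13568) fix_ok_run106 rfl).step (b := 13696) fix_ok_run107 rfl).step (b := 13824) fix_ok_run108 rfl).step (b := 13952) fix_ok_run109 rfl).step (b := 14080) fix_ok_run110 rfl).step (b := 14208) fix_ok_run111 rfl).step (b := 14336) fix_ok_run112 rfl).step (b := 14464) fix_ok_run113 rfl).step (b := 14592) fix_ok_run114 rfl).step (b := 14720) fix_ok_run115 rfl).step (b := 14848) fix_ok_run116 rfl).step (b := 14976) fix_ok_run117 rfl).step (b := 15104) fix_ok_run118 rfl).step (b := 15232) fix_ok_run119 rfl).step (b := 15360) fix_ok_run120 rfl).step (b := 15488) fix_ok_run121 rfl).step (b := 15616) fix_ok_run122 rfl).step (b := 15744) fix_ok_run123 rfl).step (b := 15872) fix_ok_run124 rfl).step (b := 16000) fix_ok_run125 rfl).step (b := 16128) fix_ok_run126 rfl).step (b := 16256) fix_ok_run127 rfl).step (b := 16384) fix_ok_run128 rfl).step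 (b := 16512) fix_ok_run129 rfl).step (b := 16640) fix_ok_run130 rfl).step (b := 16768) fix_ok_run131 rfl).step (b := 16896) fix_ok_run132 rfl).step (b := 17024) fix_ok_run133 rfl).step (b := 17152) fix_ok_run134 rfl).step (b := 17280) fix_ok_run135 rfl).step (b := 17408) fix_ok_run136 rfl).step (b := 17536) fix_ok_run137 rfl).step (b := 17664) fix_ok_run138 rfl).step (b := 17792) fix_ok_run139 rfl).step (b := 17920) fix_ok_run140 rfl).step (b := 18048) fix_ok_run141 rfl).step (b := 18176) fix_ok_run142 rfl).step (b := 18304) fix_ok_run143 rfl).step (b := 18432) fix_ok_run144 rfl).step (b := 18560) fix_ok_run145 rfl).step (b := 18688) fix_ok_run146 rfl).step (b := 18816) fix_ok_run147 rfl).step (b := 18944) fix_ok_run148 rfl).step (b := 19072) fix_ok_run149 rfl).step (b := 19200) fix_ok_run150 rfl).step (b := 19328) fix_ok_run151 rfl).step (b := 19456) fix_ok_run152 rfl).step (b := 19584) fix_ok_run153 rfl).step (b := 19712) fix_ok_run154 rfl).step (b := 19840) fix_ok_run155 rfl).step (b := 19968) fix_ok_run156 rfl).step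 (b := 20096) fix_ok_run157 rfl).step (b := 20224) fix_ok_run158 rfl).step (b := 20352) fix_ok_run159 rfl).step (b := 20480) fix_ok_run160 rfl).step (b := 20608) fix_ok_run161 rfl).step (b := 20736) fix_ok_run162 rfl).step (b := 20864) fix_ok_run163 rfl).step (b := 20992) fix_ok_run164 rfl).step (b := 21120) fix_ok_run165 rfl).step (b := 21248) fix_ok_run166 rfl).step (b := 21376) fix_ok_run167 rfl).step (b := 21504) fix_ok_run168 rfl).step (b := 21632) fix_ok_run169 rfl).step (b := 21760) fix_ok_run170 rfl).step (b := 21888) fix_ok_run171 rfl).step (b := 22016) fix_ok_run172 rfl).step (b := 22144) fix_ok_run173 rfl).step (b := 22272) fix_ok_run174 rfl).step (b := 22400) fix_ok_run175 rfl).step (b := 22528) fix_ok_run176 rfl).step (b := 22656) fix_ok_run177 rfl).step (b := 22784) fix_ok_run178 rfl).step (b := 22912) fix_ok_run179 rfl).step (b := 23040) fix_ok_run180 rfl).step (b := 23168) fix_ok_run181 rfl).step (b := 23296) fix_ok_run182 rfl).step (b := 23424) fix_ok_run183 rfl).step (b := 23552) fix_ok_run184 rfl).step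 (b := 23680) fix_ok_run185 rfl).step (b := 23808) fix_ok_run186 rfl).step (b := 23936) fix_ok_run187 rfl).step (b := 24064) fix_ok_run188 rfl).step (b := 24192) fix_ok_run189 rfl).step (b := 24320) fix_ok_run190 rfl).step (b := 24448) fix_ok_run191 rfl).step (b := 24576) fix_ok_run192 rfl).step (b := 24704) fix_ok_run193 rfl).step (b := 24832) fix_ok_run194 rfl).step (b := 24960) fix_ok_run195 rfl).step (b := 25088) fix_ok_run196 rfl).step (b := 25216) fix_ok_run197 rfl).step (b := 25344) fix_ok_run198 rfl).step (b := 25472) fix_ok_run199 rfl).step (b := 25600) fix_ok_run200 rfl).step (b := 25728) fix_ok_run201 rfl).step (b := 25856) fix_ok_run202 rfl).step (b := 25984) fix_ok_run203 rfl).step (b := 26112) fix_ok_run204 rfl).step (b := 26240) fix_ok_run205 rfl).step (b := 26368) fix_ok_run206 rfl).step (b := 26496) fix_ok_run207 rfl).step (b := 26624) fix_ok_run208 rfl).step (b := 26752) fix_ok_run209 rfl).step (b := 26880) fix_ok_run210 rfl).step (b := 27008) fix_ok_run211 rfl).step (b := 27136) fix_ok_run212 rfl).step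 (b := 27264) fix_ok_run213 rfl).step (b := 27392) fix_ok_run214 rfl).step (b := 27520) fix_ok_run215 rfl).step (b := 27648) fix_ok_run216 rfl).step (b := 27776) fix_ok_run217 rfl).step (b := 27904) fix_ok_run218 rfl).step (b := 28032) fix_ok_run219 rfl).step (b := 28160) fix_ok_run220 rfl).step (b := 28288) fix_ok_run221 rfl).step (b := 28416) fix_ok_run222 rfl).step (b := 28544) fix_ok_run223 rfl).step (b := 28672) fix_ok_run224 rfl).step (b := 28800) fix_ok_run225 rfl).step (b := 28928) fix_ok_run226 rfl).step (b := 29056) fix_ok_run227 rfl).step (b := 29184) fix_ok_run228 rfl).step (b := 29312) fix_ok_run229 rfl).step (b := 29440) fix_ok_run230 rfl).step (b := 29568) fix_ok_run231 rfl).step (b := 29696) fix_ok_run232 rfl).step (b := 29824) fix_ok_run233 rfl).step (b := 29952) fix_ok_run234 rfl).step (b := 30080) fix_ok_run235 rfl).step (b := 30208) fix_ok_run236 rfl).step (b := 30336) fix_ok_run237 rfl).step (b := 30464) fix_ok_run238 rfl).step (b := 30592) fix_ok_run239 rfl).step (b := 30720) fix_ok_run240 rfl).step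 (b := 30848) fix_ok_run241 rfl).step (b := 30976) fix_ok_run242 rfl).step (b := 31104) fix_ok_run243 rfl).step (b := 31232) fix_ok_run244 rfl).step (b := 31360) fix_ok_run245 rfl).step (b := 31488) fix_ok_run246 rfl).step (b := 31616) fix_ok_run247 rfl).step (b := 31671) fix_ok_run248 rfl

end Cfsg.Agent.Lib.CosetTable.Fi23m
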