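import Cfsg.Agent.Lib.CosetTable.Sound
import Cfsg.Agent.Lib.CosetTable.Fi23m.Data

/-! Generated certificate data for the coset table `Fi23m`. -/

namespace Cfsg.Agent.Lib.CosetTable.Fi23m

open Cfsg.Agent.Lib.CosetTable

set_option Elab.async false
set_option maxRecDepth 10000

theorem rows_ok_run1 : rangeAll (tab.rowOK cert 177968) 96 0 = true := by decide +kernel

theorem rows_ok_run2 : rangeAll (tab.rowOK cert 177968) 96 96 = true := by decide +kernel

theorem rows_ok_run3 : rangeAll (tab.rowOK cert 177968) 96 192 = true := by decide +kernel

theorem rows_ok_run4 : rangeAll (tab.rowOK cert 177968) 96 288 = true := by decide +kernel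

theorem rows_ok_run5 : rangeAll (tab.rowOK cert 177968) 96 384 = true := by decide +kernel

theorem rows_ok_run6 : rangeAll (tab.rowOK cert 177968) 96 480 = true := by decide +kernel

theorem rows_ok_run7 : rangeAll (tab.rowOK cert 177968) 96 576 = true := by decide +kernel

theorem rows_ok_run8 : rangeAll (tab.rowOK cert 177968) 96 672 = true := by decide +kernel

theorem rows_ok_run9 : rangeAll (tab.rowOK cert 177968) 96 768 = true := by decide +kernel

theorem rows_ok_run10 : rangeAll (tab.rowOK cert 177968) 96 864 = true := by decide +kernel

theorem rows_ok_run11 : rangeAll (tab.rowOK cert 177968) 96 960 = true := by decide +kernel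

theorem rows_ok_run12 : rangeAll (tab.rowOK cert 177968) 96 1056 = true := by decide +kernel

theorem rows_ok_run13 : rangeAll (tab.rowOK cert 177968) 96 1152 = true := by decide +kernel

theorem rows_ok_run14 : rangeAll (tab.rowOK cert 177968) 96 1248 = true := by decide +kernel

theorem rows_ok_run15 : rangeAll (tab.rowOK cert 177968) 96 1344 = true := by decide +kernel

theorem rows_ok_run16 : rangeAll (tab.rowOK cert 177968) 96 1440 = true := by decide +kernel

theorem rows_ok_run17 : rangeAll (tab.rowOK cert 177968) 96 1536 = true := by decide +kernel

theorem rows_ok_run18 : rangeAll (tab.rowOK cert 177968) 96 1632 = true := by decide +kernel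

theorem rows_ok_run19 : rangeAll (tab.rowOK cert 177968) 96 1728 = true := by decide +kernel

theorem rows_ok_run20 : rangeAll (tab.rowOK cert 177968) 96 1824 = true := by decide +kernel

theorem rows_ok_run21 : rangeAll (tab.rowOK cert 177968) 96 1920 = true := by decide +kernel

theorem rows_ok_run22 : rangeAll (tab.rowOK cert 177968) 96 2016 = true := by decide +kernel

theorem rows_ok_run23 : rangeAll (tab.rowOK cert 177968) 96 2112 = true := by decide +kernel

theorem rows_ok_run24 : rangeAll (tab.rowOK cert 177968) 96 2208 = true := by decide +kernel

theorem rows_ok_run25 : rangeAll (tab.rowOK cert 177968) 96 2304 = true := by decide +kernel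

theorem rows_ok_run26 : rangeAll (tab.rowOK cert 177968) 96 2400 = true := by decide +kernel

theorem rows_ok_run27 : rangeAll (tab.rowOK cert 177968) 96 2496 = true := by decide +kernel

theorem rows_ok_run28 : rangeAll (tab.rowOK cert 177968) 96 2592 = true := by decide +kernel

theorem rows_ok_run29 : rangeAll (tab.rowOK cert 177968) 96 2688 = true := by decide +kernel

theorem rows_ok_run30 : rangeAll (tab.rowOK cert 177968) 96 2784 = true := by decide +kernel

theorem rows_ok_run31 : rangeAll (tab.rowOK cert 177968) 96 2880 = true := by decide +kernel

theorem rows_ok_run32 : rangeAll (tab.rowOK cert 177968) 96 2976 = true := by decide +kernel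

theorem rows_ok_run33 : rangeAll (tab.rowOK cert 177968) 96 3072 = true := by decide +kernel

theorem rows_ok_run34 : rangeAll (tab.rowOK cert 177968) 96 3168 = true := by decide +kernel

theorem rows_ok_run35 : rangeAll (tab.rowOK cert 177968) 96 3264 = true := by decide +kernel

theorem rows_ok_run36 : rangeAll (tab.rowOK cert 177968) 96 3360 = true := by decide +kernel

theorem rows_ok_run37 : rangeAll (tab.rowOK cert 177968) 96 3456 = true := by decide +kernel

theorem rows_ok_run38 : rangeAll (tab.rowOK cert 177968) 96 3552 = true := by decide +kernel

theorem rows_ok_run39 : rangeAll (tab.rowOK cert 177968) 96 3648 = true := by decide +kernel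

theorem rows_ok_run40 : rangeAll (tab.rowOK cert 177968) 96 3744 = true := by decide +kernel

theorem rows_ok_run41 : rangeAll (tab.rowOK cert 177968) 96 3840 = true := by decide +kernel

theorem rows_ok_run42 : rangeAll (tab.rowOK cert 177968) 96 3936 = true := by decide +kernel

theorem rows_ok_run43 : rangeAll (tab.rowOK cert 177968) 96 4032 = true := by decide +kernel

theorem rows_ok_run44 : rangeAll (tab.rowOK cert 177968) 96 4128 = true := by decide +kernel

theorem rows_ok_run45 : rangeAll (tab.rowOK cert 177968) 96 4224 = true := by decide +kernel

theorem rows_ok_run46 : rangeAll (tab.rowOK cert 177968) 96 4320 = true := by decide +kernel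

theorem rows_ok_run47 : rangeAll (tab.rowOK cert 177968) 96 4416 = true := by decide +kernel

theorem rows_ok_run48 : rangeAll (tab.rowOK cert 177968) 96 4512 = true := by decide +kernel

theorem rows_ok_run49 : rangeAll (tab.rowOK cert 177968) 96 4608 = true := by decide +kernel

theorem rows_ok_run50 : rangeAll (tab.rowOK cert 177968) 96 4704 = true := by decide +kernel

theorem rows_ok_run51 : rangeAll (tab.rowOK cert 177968) 96 4800 = true := by decide +kernel

theorem rows_ok_run52 : rangeAll (tab.rowOK cert 177968) 96 4896 = true := by decide +kernel

theorem rows_ok_run53 : rangeAll (tab.rowOK cert 177968) 96 4992 = true := by decide +kernel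

theorem rows_ok_run54 : rangeAll (tab.rowOK cert 177968) 96 5088 = true := by decide +kernel

theorem rows_ok_run55 : rangeAll (tab.rowOK cert 177968) 96 5184 = true := by decide +kernel

theorem rows_ok_run56 : rangeAll (tab.rowOK cert 177968) 96 5280 = true := by decide +kernel

theorem rows_ok_run57 : rangeAll (tab.rowOK cert 177968) 96 5376 = true := by decide +kernel

theorem rows_ok_run58 : rangeAll (tab.rowOK cert 177968) 96 5472 = true := by decide +kernel

theorem rows_ok_run59 : rangeAll (tab.rowOK cert 177968) 96 5568 = true := by decide +kernel

theorem rows_ok_run60 : rangeAll (tab.rowOK cert 177968) 96 5664 = true := by decide +kernel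

theorem rows_ok_run61 : rangeAll (tab.rowOK cert 177968) 96 5760 = true := by decide +kernel

theorem rows_ok_run62 : rangeAll (tab.rowOK cert 177968) 96 5856 = true := by decide +kernel

theorem rows_ok_run63 : rangeAll (tab.rowOK cert 177968) 96 5952 = true := by decide +kernel

theorem rows_ok_run64 : rangeAll (tab.rowOK cert 177968) 96 6048 = true := by decide +kernel

theorem rows_ok_run65 : rangeAll (tab.rowOK cert 177968) 96 6144 = true := by decide +kernel

theorem rows_ok_run66 : rangeAll (tab.rowOK cert 177968) 96 6240 = true := by decide +kernel

theorem rows_ok_run67 : rangeAll (tab.rowOK cert 177968) 96 6336 = true := by decide +kernel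

theorem rows_ok_run68 : rangeAll (tab.rowOK cert 177968) 96 6432 = true := by decide +kernel

theorem rows_ok_run69 : rangeAll (tab.rowOK cert 177968) 96 6528 = true := by decide +kernel

theorem rows_ok_run70 : rangeAll (tab.rowOK cert 177968) 96 6624 = true := by decide +kernel

theorem rows_ok_run71 : rangeAll (tab.rowOK cert 177968) 96 6720 = true := by decide +kernel

theorem rows_ok_run72 : rangeAll (tab.rowOK cert 177968) 96 6816 = true := by decide +kernel

theorem rows_ok_run73 : rangeAll (tab.rowOK cert 177968) 96 6912 = true := by decide +kernel

theorem rows_ok_run74 : rangeAll (tab.rowOK cert 177968) 96 7008 = true := by decide +kernel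

theorem rows_ok_run75 : rangeAll (tab.rowOK cert 177968) 96 7104 = true := by decide +kernel

theorem rows_ok_run76 : rangeAll (tab.rowOK cert 177968) 96 7200 = true := by decide +kernel

theorem rows_ok_run77 : rangeAll (tab.rowOK cert 177968) 96 7296 = true := by decide +kernel

theorem rows_ok_run78 : rangeAll (tab.rowOK cert 177968) 96 7392 = true := by decide +kernel

theorem rows_ok_run79 : rangeAll (tab.rowOK cert 177968) 96 7488 = true := by decide +kernel

theorem rows_ok_run80 : rangeAll (tab.rowOK cert 177968) 96 7584 = true := by decide +kernel

theorem rows_ok_run81 : rangeAll (tab.rowOK cert 177968) 96 7680 = true := by decide +kernel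

theorem rows_ok_run82 : rangeAll (tab.rowOK cert 177968) 96 7776 = true := by decide +kernel

theorem rows_ok_run83 : rangeAll (tab.rowOK cert 177968) 96 7872 = true := by decide +kernel

theorem rows_ok_run84 : rangeAll (tab.rowOK cert 177968) 96 7968 = true := by decide +kernel

theorem rows_ok_run85 : rangeAll (tab.rowOK cert 177968) 96 8064 = true := by decide +kernel

theorem rows_ok_run86 : rangeAll (tab.rowOK cert 177968) 96 8160 = true := by decide +kernel

theorem rows_ok_run87 : rangeAll (tab.rowOK cert 177968) 96 8256 = true := by decide +kernel

theorem rows_ok_run88 : rangeAll (tab.rowOK cert 177968) 96 8352 = true := by decide +kernel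

theorem rows_ok_run89 : rangeAll (tab.rowOK cert 177968) 96 8448 = true := by decide +kernel

theorem rows_ok_run90 : rangeAll (tab.rowOK cert 177968) 96 8544 = true := by decide +kernel

theorem rows_ok_run91 : rangeAll (tab.rowOK cert 177968) 96 8640 = true := by decide +kernel

theorem rows_ok_run92 : rangeAll (tab.rowOK cert 177968) 96 8736 = true := by decide +kernel

theorem rows_ok_run93 : rangeAll (tab.rowOK cert 177968) 96 8832 = true := by decide +kernel

theorem rows_ok_run94 : rangeAll (tab.rowOK cert 177968) 96 8928 = true := by decide +kernel

theorem rows_ok_run95 : rangeAll (tab.rowOK cert 177968) 96 9024 = true := by decide +kernel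

theorem rows_ok_run96 : rangeAll (tab.rowOK cert 177968) 96 9120 = true := by decide +kernel

theorem rows_ok_run97 : rangeAll (tab.rowOK cert 177968) 96 9216 = true := by decide +kernel

theorem rows_ok_run98 : rangeAll (tab.rowOK cert 177968) 96 9312 = true := by decide +kernel

theorem rows_ok_run99 : rangeAll (tab.rowOK cert 177968) 96 9408 = true := by decide +kernel

theorem rows_ok_run100 : rangeAll (tab.rowOK cert 177968) 96 9504 = true := by decide +kernel

theorem rows_ok_run101 : rangeAll (tab.rowOK cert 177968) 96 9600 = true := by decide +kernel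

theorem rows_ok_run102 : rangeAll (tab.rowOK cert 177968) 96 9696 = true := by decide +kernel

theorem rows_ok_run103 : rangeAll (tab.rowOK cert 177968) 96 9792 = true := by decide +kernel

theorem rows_ok_run104 : rangeAll (tab.rowOK cert 177968) 96 9888 = true := by decide +kernel

theorem rows_ok_run105 : rangeAll (tab.rowOK cert 177968) 96 9984 = true := by decide +kernel

theorem rows_ok_run106 : rangeAll (tab.rowOK cert 177968) 96 10080 = true := by decide +kernel

theorem rows_ok_run107 : rangeAll (tab.rowOK cert 177968) 96 10176 = true := by decide +kernel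

theorem rows_ok_run108 : rangeAll (tab.rowOK cert 177968) 96 10272 = true := by decide +kernel

theorem rows_ok_run109 : rangeAll (tab.rowOK cert 177968) 96 10368 = true := by decide +kernel

theorem rows_ok_run110 : rangeAll (tab.rowOK cert 177968) 96 10464 = true := by decide +kernel

theorem rows_ok_run111 : rangeAll (tab.rowOK cert 177968) 96 10560 = true := by decide +kernel

theorem rows_ok_run112 : rangeAll (tab.rowOK cert 177968) 96 10656 = true := by decide +kernel

theorem rows_ok_run113 : rangeAll (tab.rowOK cert 177968) 96 10752 = true := by decide +kernel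

theorem rows_ok_run114 : rangeAll (tab.rowOK cert 177968) 96 10848 = true := by decide +kernel

theorem rows_ok_run115 : rangeAll (tab.rowOK cert 177968) 96 10944 = true := by decide +kernel

theorem rows_ok_run116 : rangeAll (tab.rowOK cert 177968) 96 11040 = true := by decide +kernel

theorem rows_ok_run117 : rangeAll (tab.rowOK cert 177968) 96 11136 = true := by decide +kernel

theorem rows_ok_run118 : rangeAll (tab.rowOK cert 177968) 96 11232 = true := by decide +kernel

theorem rows_ok_run119 : rangeAll (tab.rowOK cert 177968) 96 11328 = true := by decide +kernel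

theorem rows_ok_run120 : rangeAll (tab.rowOK cert 177968) 96 11424 = true := by decide +kernel

theorem rows_ok_run121 : rangeAll (tab.rowOK cert 177968) 96 11520 = true := by decide +kernel

theorem rows_ok_run122 : rangeAll (tab.rowOK cert 177968) 96 11616 = true := by decide +kernel

theorem rows_ok_run123 : rangeAll (tab.rowOK cert 177968) 96 11712 = true := by decide +kernel

theorem rows_ok_run124 : rangeAll (tab.rowOK cert 177968) 96 11808 = true := by decide +kernel

theorem rows_ok_run125 : rangeAll (tab.rowOK cert 177968) 96 11904 = true := by decide +kernel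

theorem rows_ok_run126 : rangeAll (tab.rowOK cert 177968) 96 12000 = true := by decide +kernel

theorem rows_ok_run127 : rangeAll (tab.rowOK cert 177968) 96 12096 = true := by decide +kernel

theorem rows_ok_run128 : rangeAll (tab.rowOK cert 177968) 96 12192 = true := by decide +kernel

theorem rows_ok_run129 : rangeAll (tab.rowOK cert 177968) 96 12288 = true := by decide +kernel

theorem rows_ok_run130 : rangeAll (tab.rowOK cert 177968) 96 12384 = true := by decide +kernel

theorem rows_ok_run131 : rangeAll (tab.rowOK cert 177968) 96 12480 = true := by decide +kernel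

theorem rows_ok_run132 : rangeAll (tab.rowOK cert 177968) 96 12576 = true := by decide +kernel

theorem rows_ok_run133 : rangeAll (tab.rowOK cert 177968) 96 12672 = true := by decide +kernel

theorem rows_ok_run134 : rangeAll (tab.rowOK cert 177968) 96 12768 = true := by decide +kernel

theorem rows_ok_run135 : rangeAll (tab.rowOK cert 177968) 96 12864 = true := by decide +kernel

theorem rows_ok_run136 : rangeAll (tab.rowOK cert 177968) 96 12960 = true := by decide +kernel

theorem rows_ok_run137 : rangeAll (tab.rowOK cert 177968) 96 13056 = true := by decide +kernel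

theorem rows_ok_run138 : rangeAll (tab.rowOK cert 177968) 96 13152 = true := by decide +kernel

theorem rows_ok_run139 : rangeAll (tab.rowOK cert 177968) 96 13248 = true := by decide +kernel

theorem rows_ok_run140 : rangeAll (tab.rowOK cert 177968) 96 13344 = true := by decide +kernel

theorem rows_ok_run141 : rangeAll (tab.rowOK cert 177968) 96 13440 = true := by decide +kernel

theorem rows_ok_run142 : rangeAll (tab.rowOK cert 177968) 96 13536 = true := by decide +kernel

theorem rows_ok_run143 : rangeAll (tab.rowOK cert 177968) 96 13632 = true := by decide +kernel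

theorem rows_ok_run144 : rangeAll (tab.rowOK cert 177968) 96 13728 = true := by decide +kernel

theorem rows_ok_run145 : rangeAll (tab.rowOK cert 177968) 96 13824 = true := by decide +kernel

theorem rows_ok_run146 : rangeAll (tab.rowOK cert 177968) 96 13920 = true := by decide +kernel

theorem rows_ok_run147 : rangeAll (tab.rowOK cert 177968) 96 14016 = true := by decide +kernel

theorem rows_ok_run148 : rangeAll (tab.rowOK cert 177968) 96 14112 = true := by decide +kernel

theorem rows_ok_run149 : rangeAll (tab.rowOK cert 177968) 96 14208 = true := by decide +kernel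

theorem rows_ok_run150 : rangeAll (tab.rowOK cert 177968) 96 14304 = true := by decide +kernel

theorem rows_ok_run151 : rangeAll (tab.rowOK cert 177968) 96 14400 = true := by decide +kernel

theorem rows_ok_run152 : rangeAll (tab.rowOK cert 177968) 96 14496 = true := by decide +kernel

theorem rows_ok_run153 : rangeAll (tab.rowOK cert 177968) 96 14592 = true := by decide +kernel

theorem rows_ok_run154 : rangeAll (tab.rowOK cert 177968) 96 14688 = true := by decide +kernel

theorem rows_ok_run155 : rangeAll (tab.rowOK cert 177968) 96 14784 = true := by decide +kernel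

theorem rows_ok_run156 : rangeAll (tab.rowOK cert 177968) 96 14880 = true := by decide +kernel

theorem rows_ok_run157 : rangeAll (tab.rowOK cert 177968) 96 14976 = true := by decide +kernel

theorem rows_ok_run158 : rangeAll (tab.rowOK cert 177968) 96 15072 = true := by decide +kernel

theorem rows_ok_run159 : rangeAll (tab.rowOK cert 177968) 96 15168 = true := by decide +kernel

theorem rows_ok_run160 : rangeAll (tab.rowOK cert 177968) 96 15264 = true := by decide +kernel

theorem rows_ok_run161 : rangeAll (tab.rowOK cert 177968) 96 15360 = true := by decide +kernel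

theorem rows_ok_run162 : rangeAll (tab.rowOK cert 177968) 96 15456 = true := by decide +kernel

theorem rows_ok_run163 : rangeAll (tab.rowOK cert 177968) 96 15552 = true := by decide +kernel

theorem rows_ok_run164 : rangeAll (tab.rowOK cert 177968) 96 15648 = true := by decide +kernel

theorem rows_ok_run165 : rangeAll (tab.rowOK cert 177968) 96 15744 = true := by decide +kernel

theorem rows_ok_run166 : rangeAll (tab.rowOK cert 177968) 96 15840 = true := by decide +kernel

theorem rows_ok_run167 : rangeAll (tab.rowOK cert 177968) 96 15936 = true := by decide +kernel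

theorem rows_ok_run168 : rangeAll (tab.rowOK cert 177968) 96 16032 = true := by decide +kernel

theorem rows_ok_run169 : rangeAll (tab.rowOK cert 177968) 96 16128 = true := by decide +kernel

theorem rows_ok_run170 : rangeAll (tab.rowOK cert 177968) 96 16224 = true := by decide +kernel

theorem rows_ok_run171 : rangeAll (tab.rowOK cert 177968) 96 16320 = true := by decide +kernel

theorem rows_ok_run172 : rangeAll (tab.rowOK cert 177968) 96 16416 = true := by decide +kernel

theorem rows_ok_run173 : rangeAll (tab.rowOK cert 177968) 96 16512 = true := by decide +kernel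

theorem rows_ok_run174 : rangeAll (tab.rowOK cert 177968) 96 16608 = true := by decide +kernel

theorem rows_ok_run175 : rangeAll (tab.rowOK cert 177968) 96 16704 = true := by decide +kernel

theorem rows_ok_run176 : rangeAll (tab.rowOK cert 177968) 96 16800 = true := by decide +kernel

theorem rows_ok_run177 : rangeAll (tab.rowOK cert 177968) 96 16896 = true := by decide +kernel

theorem rows_ok_run178 : rangeAll (tab.rowOK cert 177968) 96 16992 = true := by decide +kernel

theorem rows_ok_run179 : rangeAll (tab.rowOK cert 177968) 96 17088 = true := by decide +kernel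

theorem rows_ok_run180 : rangeAll (tab.rowOK cert 177968) 96 17184 = true := by decide +kernel

theorem rows_ok_run181 : rangeAll (tab.rowOK cert 177968) 96 17280 = true := by decide +kernel

theorem rows_ok_run182 : rangeAll (tab.rowOK cert 177968) 96 17376 = true := by decide +kernel

theorem rows_ok_run183 : rangeAll (tab.rowOK cert 177968) 96 17472 = true := by decide +kernel

theorem rows_ok_run184 : rangeAll (tab.rowOK cert 177968) 96 17568 = true := by decide +kernel

theorem rows_ok_run185 : rangeAll (tab.rowOK cert 177968) 96 17664 = true := by decide +kernel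

theorem rows_ok_run186 : rangeAll (tab.rowOK cert 177968) 96 17760 = true := by decide +kernel

theorem rows_ok_run187 : rangeAll (tab.rowOK cert 177968) 96 17856 = true := by decide +kernel

theorem rows_ok_run188 : rangeAll (tab.rowOK cert 177968) 96 17952 = true := by decide +kernel

theorem rows_ok_run189 : rangeAll (tab.rowOK cert 177968) 96 18048 = true := by decide +kernel

theorem rows_ok_run190 : rangeAll (tab.rowOK cert 177968) 96 18144 = true := by decide +kernel

theorem rows_ok_run191 : rangeAll (tab.rowOK cert 177968) 96 18240 = true := by decide +kernel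

theorem rows_ok_run192 : rangeAll (tab.rowOK cert 177968) 96 18336 = true := by decide +kernel

theorem rows_ok_run193 : rangeAll (tab.rowOK cert 177968) 96 18432 = true := by decide +kernel

theorem rows_ok_run194 : rangeAll (tab.rowOK cert 177968) 96 18528 = true := by decide +kernel

theorem rows_ok_run195 : rangeAll (tab.rowOK cert 177968) 96 18624 = true := by decide +kernel

theorem rows_ok_run196 : rangeAll (tab.rowOK cert 177968) 96 18720 = true := by decide +kernel

theorem rows_ok_run197 : rangeAll (tab.rowOK cert 177968) 96 18816 = true := by decide +kernel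

theorem rows_ok_run198 : rangeAll (tab.rowOK cert 177968) 96 18912 = true := by decide +kernel

theorem rows_ok_run199 : rangeAll (tab.rowOK cert 177968) 96 19008 = true := by decide +kernel

theorem rows_ok_run200 : rangeAll (tab.rowOK cert 177968) 96 19104 = true := by decide +kernel

theorem rows_ok_run201 : rangeAll (tab.rowOK cert 177968) 96 19200 = true := by decide +kernel

theorem rows_ok_run202 : rangeAll (tab.rowOK cert 177968) 96 19296 = true := by decide +kernel

theorem rows_ok_run203 : rangeAll (tab.rowOK cert 177968) 96 19392 = true := by decide +kernel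

theorem rows_ok_run204 : rangeAll (tab.rowOK cert 177968) 96 19488 = true := by decide +kernel

theorem rows_ok_run205 : rangeAll (tab.rowOK cert 177968) 96 19584 = true := by decide +kernel

theorem rows_ok_run206 : rangeAll (tab.rowOK cert 177968) 96 19680 = true := by decide +kernel

theorem rows_ok_run207 : rangeAll (tab.rowOK cert 177968) 96 19776 = true := by decide +kernel

theorem rows_ok_run208 : rangeAll (tab.rowOK cert 177968) 96 19872 = true := by decide +kernel

theorem rows_ok_run209 : rangeAll (tab.rowOK cert 177968) 96 19968 = true := by decide +kernel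

theorem rows_ok_run210 : rangeAll (tab.rowOK cert 177968) 96 20064 = true := by decide +kernel

theorem rows_ok_run211 : rangeAll (tab.rowOK cert 177968) 96 20160 = true := by decide +kernel

theorem rows_ok_run212 : rangeAll (tab.rowOK cert 177968) 96 20256 = true := by decide +kernel

theorem rows_ok_run213 : rangeAll (tab.rowOK cert 177968) 96 20352 = true := by decide +kernel

theorem rows_ok_run214 : rangeAll (tab.rowOK cert 177968) 96 20448 = true := by decide +kernel

theorem rows_ok_run215 : rangeAll (tab.rowOK cert 177968) 96 20544 = true := by decide +kernel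

theorem rows_ok_run216 : rangeAll (tab.rowOK cert 177968) 96 20640 = true := by decide +kernel

theorem rows_ok_run217 : rangeAll (tab.rowOK cert 177968) 96 20736 = true := by decide +kernel

theorem rows_ok_run218 : rangeAll (tab.rowOK cert 177968) 96 20832 = true := by decide +kernel

theorem rows_ok_run219 : rangeAll (tab.rowOK cert 177968) 96 20928 = true := by decide +kernel

theorem rows_ok_run220 : rangeAll (tab.rowOK cert 177968) 96 21024 = true := by decide +kernel

theorem rows_ok_run221 : rangeAll (tab.rowOK cert 177968) 96 21120 = true := by decide +kernel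

theorem rows_ok_run222 : rangeAll (tab.rowOK cert 177968) 96 21216 = true := by decide +kernel

theorem rows_ok_run223 : rangeAll (tab.rowOK cert 177968) 96 21312 = true := by decide +kernel

theorem rows_ok_run224 : rangeAll (tab.rowOK cert 177968) 96 21408 = true := by decide +kernel

theorem rows_ok_run225 : rangeAll (tab.rowOK cert 177968) 96 21504 = true := by decide +kernel

theorem rows_ok_run226 : rangeAll (tab.rowOK cert 177968) 96 21600 = true := by decide +kernel

theorem rows_ok_run227 : rangeAll (tab.rowOK cert 177968) 96 21696 = true := by decide +kernel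

theorem rows_ok_run228 : rangeAll (tab.rowOK cert 177968) 96 21792 = true := by decide +kernel

theorem rows_ok_run229 : rangeAll (tab.rowOK cert 177968) 96 21888 = true := by decide +kernel

theorem rows_ok_run230 : rangeAll (tab.rowOK cert 177968) 96 21984 = true := by decide +kernel

theorem rows_ok_run231 : rangeAll (tab.rowOK cert 177968) 96 22080 = true := by decide +kernel

theorem rows_ok_run232 : rangeAll (tab.rowOK cert 177968) 96 22176 = true := by decide +kernel

theorem rows_ok_run233 : rangeAll (tab.rowOK cert 177968) 96 22272 = true := by decide +kernel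

theorem rows_ok_run234 : rangeAll (tab.rowOK cert 177968) 96 22368 = true := by decide +kernel

theorem rows_ok_run235 : rangeAll (tab.rowOK cert 177968) 96 22464 = true := by decide +kernel

theorem rows_ok_run236 : rangeAll (tab.rowOK cert 177968) 96 22560 = true := by decide +kernel

theorem rows_ok_run237 : rangeAll (tab.rowOK cert 177968) 96 22656 = true := by decide +kernel

theorem rows_ok_run238 : rangeAll (tab.rowOK cert 177968) 96 22752 = true := by decide +kernel

theorem rows_ok_run239 : rangeAll (tab.rowOK cert 177968) 96 22848 = true := by decide +kernel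

theorem rows_ok_run240 : rangeAll (tab.rowOK cert 177968) 96 22944 = true := by decide +kernel

theorem rows_ok_run241 : rangeAll (tab.rowOK cert 177968) 96 23040 = true := by decide +kernel

theorem rows_ok_run242 : rangeAll (tab.rowOK cert 177968) 96 23136 = true := by decide +kernel

theorem rows_ok_run243 : rangeAll (tab.rowOK cert 177968) 96 23232 = true := by decide +kernel

theorem rows_ok_run244 : rangeAll (tab.rowOK cert 177968) 96 23328 = true := by decide +kernel

theorem rows_ok_run245 : rangeAll (tab.rowOK cert 177968) 96 23424 = true := by decide +kernel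

theorem rows_ok_run246 : rangeAll (tab.rowOK cert 177968) 96 23520 = true := by decide +kernel

theorem rows_ok_run247 : rangeAll (tab.rowOK cert 177968) 96 23616 = true := by decide +kernel

theorem rows_ok_run248 : rangeAll (tab.rowOK cert 177968) 96 23712 = true := by decide +kernel

theorem rows_ok_run249 : rangeAll (tab.rowOK cert 177968) 96 23808 = true := by decide +kernel

theorem rows_ok_run250 : rangeAll (tab.rowOK cert 177968) 96 23904 = true := by decide +kernel

theorem rows_ok_run251 : rangeAll (tab.rowOK cert 177968) 96 24000 = true := by decide +kernel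

theorem rows_ok_run252 : rangeAll (tab.rowOK cert 177968) 96 24096 = true := by decide +kernel

theorem rows_ok_run253 : rangeAll (tab.rowOK cert 177968) 96 24192 = true := by decide +kernel

theorem rows_ok_run254 : rangeAll (tab.rowOK cert 177968) 96 24288 = true := by decide +kernel

theorem rows_ok_run255 : rangeAll (tab.rowOK cert 177968) 96 24384 = true := by decide +kernel

theorem rows_ok_run256 : rangeAll (tab.rowOK cert 177968) 96 24480 = true := by decide +kernel

theorem rows_ok_run257 : rangeAll (tab.rowOK cert 177968) 96 24576 = true := by decide +kernel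

theorem rows_ok_run258 : rangeAll (tab.rowOK cert 177968) 96 24672 = true := by decide +kernel

theorem rows_ok_run259 : rangeAll (tab.rowOK cert 177968) 96 24768 = true := by decide +kernel

theorem rows_ok_run260 : rangeAll (tab.rowOK cert 177968) 96 24864 = true := by decide +kernel

theorem rows_ok_run261 : rangeAll (tab.rowOK cert 177968) 96 24960 = true := by decide +kernel

theorem rows_ok_run262 : rangeAll (tab.rowOK cert 177968) 96 25056 = true := by decide +kernel

theorem rows_ok_run263 : rangeAll (tab.rowOK cert 177968) 96 25152 = true := by decide +kernel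

theorem rows_ok_run264 : rangeAll (tab.rowOK cert 177968) 96 25248 = true := by decide +kernel

theorem rows_ok_run265 : rangeAll (tab.rowOK cert 177968) 96 25344 = true := by decide +kernel

theorem rows_ok_run266 : rangeAll (tab.rowOK cert 177968) 96 25440 = true := by decide +kernel

theorem rows_ok_run267 : rangeAll (tab.rowOK cert 177968) 96 25536 = true := by decide +kernel

theorem rows_ok_run268 : rangeAll (tab.rowOK cert 177968) 96 25632 = true := by decide +kernel

theorem rows_ok_run269 : rangeAll (tab.rowOK cert 177968) 96 25728 = true := by decide +kernel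

theorem rows_ok_run270 : rangeAll (tab.rowOK cert 177968) 96 25824 = true := by decide +kernel

theorem rows_ok_run271 : rangeAll (tab.rowOK cert 177968) 96 25920 = true := by decide +kernel

theorem rows_ok_run272 : rangeAll (tab.rowOK cert 177968) 96 26016 = true := by decide +kernel

theorem rows_ok_run273 : rangeAll (tab.rowOK cert 177968) 96 26112 = true := by decide +kernel

theorem rows_ok_run274 : rangeAll (tab.rowOK cert 177968) 96 26208 = true := by decide +kernel

theorem rows_ok_run275 : rangeAll (tab.rowOK cert 177968) 96 26304 = true := by decide +kernel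

theorem rows_ok_run276 : rangeAll (tab.rowOK cert 177968) 96 26400 = true := by decide +kernel

theorem rows_ok_run277 : rangeAll (tab.rowOK cert 177968) 96 26496 = true := by decide +kernel

theorem rows_ok_run278 : rangeAll (tab.rowOK cert 177968) 96 26592 = true := by decide +kernel

theorem rows_ok_run279 : rangeAll (tab.rowOK cert 177968) 96 26688 = true := by decide +kernel

theorem rows_ok_run280 : rangeAll (tab.rowOK cert 177968) 96 26784 = true := by decide +kernel

theorem rows_ok_run281 : rangeAll (tab.rowOK cert 177968) 96 26880 = true := by decide +kernel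

theorem rows_ok_run282 : rangeAll (tab.rowOK cert 177968) 96 26976 = true := by decide +kernel

theorem rows_ok_run283 : rangeAll (tab.rowOK cert 177968) 96 27072 = true := by decide +kernel

theorem rows_ok_run284 : rangeAll (tab.rowOK cert 177968) 96 27168 = true := by decide +kernel

theorem rows_ok_run285 : rangeAll (tab.rowOK cert 177968) 96 27264 = true := by decide +kernel

theorem rows_ok_run286 : rangeAll (tab.rowOK cert 177968) 96 27360 = true := by decide +kernel

theorem rows_ok_run287 : rangeAll (tab.rowOK cert 177968) 96 27456 = true := by decide +kernel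

theorem rows_ok_run288 : rangeAll (tab.rowOK cert 177968) 96 27552 = true := by decide +kernel

theorem rows_ok_run289 : rangeAll (tab.rowOK cert 177968) 96 27648 = true := by decide +kernel

theorem rows_ok_run290 : rangeAll (tab.rowOK cert 177968) 96 27744 = true := by decide +kernel

theorem rows_ok_run291 : rangeAll (tab.rowOK cert 177968) 96 27840 = true := by decide +kernel

theorem rows_ok_run292 : rangeAll (tab.rowOK cert 177968) 96 27936 = true := by decide +kernel

theorem rows_ok_run293 : rangeAll (tab.rowOK cert 177968) 96 28032 = true := by decide +kernel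

theorem rows_ok_run294 : rangeAll (tab.rowOK cert 177968) 96 28128 = true := by decide +kernel

theorem rows_ok_run295 : rangeAll (tab.rowOK cert 177968) 96 28224 = true := by decide +kernel

theorem rows_ok_run296 : rangeAll (tab.rowOK cert 177968) 96 28320 = true := by decide +kernel

theorem rows_ok_run297 : rangeAll (tab.rowOK cert 177968) 96 28416 = true := by decide +kernel

theorem rows_ok_run298 : rangeAll (tab.rowOK cert 177968) 96 28512 = true := by decide +kernel

theorem rows_ok_run299 : rangeAll (tab.rowOK cert 177968) 96 28608 = true := by decide +kernel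

theorem rows_ok_run300 : rangeAll (tab.rowOK cert 177968) 96 28704 = true := by decide +kernel

theorem rows_ok_run301 : rangeAll (tab.rowOK cert 177968) 96 28800 = true := by decide +kernel

theorem rows_ok_run302 : rangeAll (tab.rowOK cert 177968) 96 28896 = true := by decide +kernel

theorem rows_ok_run303 : rangeAll (tab.rowOK cert 177968) 96 28992 = true := by decide +kernel

theorem rows_ok_run304 : rangeAll (tab.rowOK cert 177968) 96 29088 = true := by decide +kernel

theorem rows_ok_run305 : rangeAll (tab.rowOK cert 177968) 96 29184 = true := by decide +kernel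

theorem rows_ok_run306 : rangeAll (tab.rowOK cert 177968) 96 29280 = true := by decide +kernel

theorem rows_ok_run307 : rangeAll (tab.rowOK cert 177968) 96 29376 = true := by decide +kernel

theorem rows_ok_run308 : rangeAll (tab.rowOK cert 177968) 96 29472 = true := by decide +kernel

theorem rows_ok_run309 : rangeAll (tab.rowOK cert 177968) 96 29568 = true := by decide +kernel

theorem rows_ok_run310 : rangeAll (tab.rowOK cert 177968) 96 29664 = true := by decide +kernel

theorem rows_ok_run311 : rangeAll (tab.rowOK cert 177968) 96 29760 = true := by decide +kernel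

theorem rows_ok_run312 : rangeAll (tab.rowOK cert 177968) 96 29856 = true := by decide +kernel

theorem rows_ok_run313 : rangeAll (tab.rowOK cert 177968) 96 29952 = true := by decide +kernel

theorem rows_ok_run314 : rangeAll (tab.rowOK cert 177968) 96 30048 = true := by decide +kernel

theorem rows_ok_run315 : rangeAll (tab.rowOK cert 177968) 96 30144 = true := by decide +kernel

theorem rows_ok_run316 : rangeAll (tab.rowOK cert 177968) 96 30240 = true := by decide +kernel

theorem rows_ok_run317 : rangeAll (tab.rowOK cert 177968) 96 30336 = true := by decide +kernel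

theorem rows_ok_run318 : rangeAll (tab.rowOK cert 177968) 96 30432 = true := by decide +kernel

theorem rows_ok_run319 : rangeAll (tab.rowOK cert 177968) 96 30528 = true := by decide +kernel

theorem rows_ok_run320 : rangeAll (tab.rowOK cert 177968) 96 30624 = true := by decide +kernel

theorem rows_ok_run321 : rangeAll (tab.rowOK cert 177968) 96 30720 = true := by decide +kernel

theorem rows_ok_run322 : rangeAll (tab.rowOK cert 177968) 96 30816 = true := by decide +kernel

theorem rows_ok_run323 : rangeAll (tab.rowOK cert 177968) 96 30912 = true := by decide +kernel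

theorem rows_ok_run324 : rangeAll (tab.rowOK cert 177968) 96 31008 = true := by decide +kernel

theorem rows_ok_run325 : rangeAll (tab.rowOK cert 177968) 96 31104 = true := by decide +kernel

theorem rows_ok_run326 : rangeAll (tab.rowOK cert 177968) 96 31200 = true := by decide +kernel

theorem rows_ok_run327 : rangeAll (tab.rowOK cert 177968) 96 31296 = true := by decide +kernel

theorem rows_ok_run328 : rangeAll (tab.rowOK cert 177968) 96 31392 = true := by decide +kernel

theorem rows_ok_run329 : rangeAll (tab.rowOK cert 177968) 96 31488 = true := by decide +kernel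

theorem rows_ok_run330 : rangeAll (tab.rowOK cert 177968) 87 31584 = true := by decide +kernel

theorem rows_ok : Below (tab.rowOK cert 177968) 31671 :=
  ((((((((((((((((((((((((((((((((((((((((((((((((((((((((((((((((((((((((((((((((((((((((((((((((((((((((((((((((((((((((((((((((((((((((((((((((((((((((((((((((((((((((((((((((((((((((((((((((((((((((((((((((((((((((((((((((((((((((((((((((((((((((((((((((((((((((((((((((((((((((((((((((((((((((((((((((((((((((((((((((((((((((((Below.zero _).step (b := 96) rows_ok_run1 rfl).step (b := 192) rows_ok_run2 rfl).step (b := 288) rows_ok_run3 rfl).step (b := 384) rows_ok_run4 rfl).step (b := 480) rows_ok_run5 rfl).step (b := 576) rows_ok_run6 rfl).step (b := 672) rows_ok_run7 rfl).step (b := 768) rows_ok_run8 rfl).step (b := 864) rows_ok_run9 rfl).step (b := 960) rows_ok_run10 rfl).step (b := 1056) rows_ok_run11 rfl).step (b := 1152) rows_ok_run12 rfl).step (b := 1248) rows_ok_run13 rfl).step (b := 1344) rows_ok_run14 rfl).step (b := 1440) rows_ok_run15 rfl).step (b := 1536) rows_ok_run16 rfl).step (b := 1632) rows_ok_run17 rfl).step (b := 1728) rows_ok_run18 rfl).step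 (b := 1824) rows_ok_run19 rfl).step (b := 1920) rows_ok_run20 rfl).step (b := 2016) rows_ok_run21 rfl).step (b := 2112) rows_ok_run22 rfl).step (b := 2208) rows_ok_run23 rfl).step (b := 2304) rows_ok_run24 rfl).step (b := 2400) rows_ok_run25 rfl).step (b := 2496) rows_ok_run26 rfl).step (b := 2592) rows_ok_run27 rfl).step (b := 2688) rows_ok_run28 rfl).step (b := 2784) rows_ok_run29 rfl).step (b := 2880) rows_ok_run30 rfl).step (b := 2976) rows_ok_run31 rfl).step (b := 3072) rows_ok_run32 rfl).step (b := 3168) rows_ok_run33 rfl).step (b := 3264) rows_ok_run34 rfl).step (b := 3360) rows_ok_run35 rfl).step (b := 3456) rows_ok_run36 rfl).step (b := 3552) rows_ok_run37 rfl).step (b := 3648) rows_ok_run38 rfl).step (b := 3744) rows_ok_run39 rfl).step (b := 3840) rows_ok_run40 rfl).step (b := 3936) rows_ok_run41 rfl).step (b := 4032) rows_ok_run42 rfl).step (b := 4128) rows_ok_run43 rfl).step (b := 4224) rows_ok_run44 rfl).step (b := 4320) rows_ok_run45 rfl).step (b := 4416) rows_ok_run46 rfl).step (b := 4512) rows_ok_run47 rfl).step (b := 4608) rows_ok_run48 rfl).step (b := 4704) rows_ok_run49 rfl).step (b := 4800) rows_ok_run50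 rfl).step (b := 4896) rows_ok_run51 rfl).step (b := 4992) rows_ok_run52 rfl).step (b := 5088) rows_ok_run53 rfl).step (b := 5184) rows_ok_run54 rfl).step (b := 5280) rows_ok_run55 rfl).step (b := 5376) rows_ok_run56 rfl).step (b := 5472) rows_ok_run57 rfl).step (b := 5568) rows_ok_run58 rfl).step (b := 5664) rows_ok_run59 rfl).step (b := 5760) rows_ok_run60 rfl).step (b := 5856) rows_ok_run61 rfl).step (b := 5952) rows_ok_run62 rfl).step (b := 6048) rows_ok_run63 rfl).step (b := 6144) rows_ok_run64 rfl).step (b := 6240) rows_ok_run65 rfl).step (b := 6336) rows_ok_run66 rfl).step (b := 6432) rows_ok_run67 rfl).step (b := 6528) rows_ok_run68 rfl).step (b := 6624) rows_ok_run69 rfl).step (b := 6720) rows_ok_run70 rfl).step (b := 6816) rows_ok_run71 rfl).step (b := 6912) rows_ok_run72 rfl).step (b := 7008) rows_ok_run73 rfl).step (b := 7104) rows_ok_run74 rfl).step (b := 7200) rows_ok_run75 rfl).step (b := 7296) rows_ok_run76 rfl).step (b := 7392) rows_ok_run77 rfl).step (b := 7488) rows_ok_run78 rfl).step (b := 7584) rows_ok_run79 rfl).step (b := 7680) rows_ok_run80 rfl).step (b := 7776) rows_ok_run81 rfl).step (b :=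 7872) rows_ok_run82 rfl).step (b := 7968) rows_ok_run83 rfl).step (b := 8064) rows_ok_run84 rfl).step (b := 8160) rows_ok_run85 rfl).step (b := 8256) rows_ok_run86 rfl).step (b := 8352) rows_ok_run87 rfl).step (b := 8448) rows_ok_run88 rfl).step (b := 8544) rows_ok_run89 rfl).step (b := 8640) rows_ok_run90 rfl).step (b := 8736) rows_ok_run91 rfl).step (b := 8832) rows_ok_run92 rfl).step (b := 8928) rows_ok_run93 rfl).step (b := 9024) rows_ok_run94 rfl).step (b := 9120) rows_ok_run95 rfl).step (b := 9216) rows_ok_run96 rfl).step (b := 9312) rows_ok_run97 rfl).step (b := 9408) rows_ok_run98 rfl).step (b := 9504) rows_ok_run99 rfl).step (b := 9600) rows_ok_run100 rfl).step (b := 9696) rows_ok_run101 rfl).step (b := 9792) rows_ok_run102 rfl).step (b := 9888) rows_ok_run103 rfl).step (b := 9984) rows_ok_run104 rfl).step (b := 10080) rows_ok_run105 rfl).step (b := 10176) rows_ok_run106 rfl).step (b := 10272) rows_ok_run107 rfl).step (b := 10368) rows_ok_run108 rfl).step (b := 10464) rows_ok_run109 rfl).step (b := 10560) rows_ok_run110 rfl).step (b := 10656) rows_ok_run111 rfl).step (b := 10752) rows_ok_run112 rfl).step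 (b := 10848) rows_ok_run113 rfl).step (b := 10944) rows_ok_run114 rfl).step (b := 11040) rows_ok_run115 rfl).step (b := 11136) rows_ok_run116 rfl).step (b := 11232) rows_ok_run117 rfl).step (b := 11328) rows_ok_run118 rfl).step (b := 11424) rows_ok_run119 rfl).step (b := 11520) rows_ok_run120 rfl).step (b := 11616) rows_ok_run121 rfl).step (b := 11712) rows_ok_run122 rfl).step (b := 11808) rows_ok_run123 rfl).step (b := 11904) rows_ok_run124 rfl).step (b := 12000) rows_ok_run125 rfl).step (b := 12096) rows_ok_run126 rfl).step (b := 12192) rows_ok_run127 rfl).step (b := 12288) rows_ok_run128 rfl).step (b := 12384) rows_ok_run129 rfl).step (b := 12480) rows_ok_run130 rfl).step (b := 12576) rows_ok_run131 rfl).step (b := 12672) rows_ok_run132 rfl).step (b := 12768) rows_ok_run133 rfl).step (b := 12864) rows_ok_run134 rfl).step (b := 12960) rows_ok_run135 rfl).step (b := 13056) rows_ok_run136 rfl).step (b := 13152) rows_ok_run137 rfl).step (b := 13248) rows_ok_run138 rfl).step (b := 13344) rows_ok_run139 rfl).step (b := 13440) rows_ok_run140 rfl).step (b := 13536) rows_ok_run141 rfl).step (b := 13632) rows_ok_run142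 rfl).step (b := 13728) rows_ok_run143 rfl).step (b := 13824) rows_ok_run144 rfl).step (b := 13920) rows_ok_run145 rfl).step (b := 14016) rows_ok_run146 rfl).step (b := 14112) rows_ok_run147 rfl).step (b := 14208) rows_ok_run148 rfl).step (b := 14304) rows_ok_run149 rfl).step (b := 14400) rows_ok_run150 rfl).step (b := 14496) rows_ok_run151 rfl).step (b := 14592) rows_ok_run152 rfl).step (b := 14688) rows_ok_run153 rfl).step (b := 14784) rows_ok_run154 rfl).step (b := 14880) rows_ok_run155 rfl).step (b := 14976) rows_ok_run156 rfl).step (b := 15072) rows_ok_run157 rfl).step (b := 15168) rows_ok_run158 rfl).step (b := 15264) rows_ok_run159 rfl).step (b := 15360) rows_ok_run160 rfl).step (b := 15456) rows_ok_run161 rfl).step (b := 15552) rows_ok_run162 rfl).step (b := 15648) rows_ok_run163 rfl).step (b := 15744) rows_ok_run164 rfl).step (b := 15840) rows_ok_run165 rfl).step (b := 15936) rows_ok_run166 rfl).step (b := 16032) rows_ok_run167 rfl).step (b := 16128) rows_ok_run168 rfl).step (b := 16224) rows_ok_run169 rfl).step (b := 16320) rows_ok_run170 rfl).step (b := 16416) rows_ok_run171 rfl).step (b := 16512) rows_ok_run172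 rfl).step (b := 16608) rows_ok_run173 rfl).step (b := 16704) rows_ok_run174 rfl).step (b := 16800) rows_ok_run175 rfl).step (b := 16896) rows_ok_run176 rfl).step (b := 16992) rows_ok_run177 rfl).step (b := 17088) rows_ok_run178 rfl).step (b := 17184) rows_ok_run179 rfl).step (b := 17280) rows_ok_run180 rfl).step (b := 17376) rows_ok_run181 rfl).step (b := 17472) rows_ok_run182 rfl).step (b := 17568) rows_ok_run183 rfl).step (b := 17664) rows_ok_run184 rfl).step (b := 17760) rows_ok_run185 rfl).step (b := 17856) rows_ok_run186 rfl).step (b := 17952) rows_ok_run187 rfl).step (b := 18048) rows_ok_run188 rfl).step (b := 18144) rows_ok_run189 rfl).step (b := 18240) rows_ok_run190 rfl).step (b := 18336) rows_ok_run191 rfl).step (b := 18432) rows_ok_run192 rfl).step (b := 18528) rows_ok_run193 rfl).step (b := 18624) rows_ok_run194 rfl).step (b := 18720) rows_ok_run195 rfl).step (b := 18816) rows_ok_run196 rfl).step (b := 18912) rows_ok_run197 rfl).step (b := 19008) rows_ok_run198 rfl).step (b := 19104) rows_ok_run199 rfl).step (b := 19200) rows_ok_run200 rfl).step (b := 19296) rows_ok_run201 rfl).step (b := 19392) rows_ok_run202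 rfl).step (b := 19488) rows_ok_run203 rfl).step (b := 19584) rows_ok_run204 rfl).step (b := 19680) rows_ok_run205 rfl).step (b := 19776) rows_ok_run206 rfl).step (b := 19872) rows_ok_run207 rfl).step (b := 19968) rows_ok_run208 rfl).step (b := 20064) rows_ok_run209 rfl).step (b := 20160) rows_ok_run210 rfl).step (b := 20256) rows_ok_run211 rfl).step (b := 20352) rows_ok_run212 rfl).step (b := 20448) rows_ok_run213 rfl).step (b := 20544) rows_ok_run214 rfl).step (b := 20640) rows_ok_run215 rfl).step (b := 20736) rows_ok_run216 rfl).step (b := 20832) rows_ok_run217 rfl).step (b := 20928) rows_ok_run218 rfl).step (b := 21024) rows_ok_run219 rfl).step (b := 21120) rows_ok_run220 rfl).step (b := 21216) rows_ok_run221 rfl).step (b := 21312) rows_ok_run222 rfl).step (b := 21408) rows_ok_run223 rfl).step (b := 21504) rows_ok_run224 rfl).step (b := 21600) rows_ok_run225 rfl).step (b := 21696) rows_ok_run226 rfl).step (b := 21792) rows_ok_run227 rfl).step (b := 21888) rows_ok_run228 rfl).step (b := 21984) rows_ok_run229 rfl).step (b := 22080) rows_ok_run230 rfl).step (b := 22176) rows_ok_run231 rfl).step (b := 22272) rows_ok_run232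 rfl).step (b := 22368) rows_ok_run233 rfl).step (b := 22464) rows_ok_run234 rfl).step (b := 22560) rows_ok_run235 rfl).step (b := 22656) rows_ok_run236 rfl).step (b := 22752) rows_ok_run237 rfl).step (b := 22848) rows_ok_run238 rfl).step (b := 22944) rows_ok_run239 rfl).step (b := 23040) rows_ok_run240 rfl).step (b := 23136) rows_ok_run241 rfl).step (b := 23232) rows_ok_run242 rfl).step (b := 23328) rows_ok_run243 rfl).step (b := 23424) rows_ok_run244 rfl).step (b := 23520) rows_ok_run245 rfl).step (b := 23616) rows_ok_run246 rfl).step (b := 23712) rows_ok_run247 rfl).step (b := 23808) rows_ok_run248 rfl).step (b := 23904) rows_ok_run249 rfl).step (b := 24000) rows_ok_run250 rfl).step (b := 24096) rows_ok_run251 rfl).step (b := 24192) rows_ok_run252 rfl).step (b := 24288) rows_ok_run253 rfl).step (b := 24384) rows_ok_run254 rfl).step (b := 24480) rows_ok_run255 rfl).step (b := 24576) rows_ok_run256 rfl).step (b := 24672) rows_ok_run257 rfl).step (b := 24768) rows_ok_run258 rfl).step (b := 24864) rows_ok_run259 rfl).step (b := 24960) rows_ok_run260 rfl).step (b := 25056) rows_ok_run261 rfl).step (b := 25152) rows_ok_run262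 rfl).step (b := 25248) rows_ok_run263 rfl).step (b := 25344) rows_ok_run264 rfl).step (b := 25440) rows_ok_run265 rfl).step (b := 25536) rows_ok_run266 rfl).step (b := 25632) rows_ok_run267 rfl).step (b := 25728) rows_ok_run268 rfl).step (b := 25824) rows_ok_run269 rfl).step (b := 25920) rows_ok_run270 rfl).step (b := 26016) rows_ok_run271 rfl).step (b := 26112) rows_ok_run272 rfl).step (b := 26208) rows_ok_run273 rfl).step (b := 26304) rows_ok_run274 rfl).step (b := 26400) rows_ok_run275 rfl).step (b := 26496) rows_ok_run276 rfl).step (b := 26592) rows_ok_run277 rfl).step (b := 26688) rows_ok_run278 rfl).step (b := 26784) rows_ok_run279 rfl).step (b := 26880) rows_ok_run280 rfl).step (b := 26976) rows_ok_run281 rfl).step (b := 27072) rows_ok_run282 rfl).step (b := 27168) rows_ok_run283 rfl).step (b := 27264) rows_ok_run284 rfl).step (b := 27360) rows_ok_run285 rfl).step (b := 27456) rows_ok_run286 rfl).step (b := 27552) rows_ok_run287 rfl).step (b := 27648) rows_ok_run288 rfl).step (b := 27744) rows_ok_run289 rfl).step (b := 27840) rows_ok_run290 rfl).step (b := 27936) rows_ok_run291 rfl).step (b := 28032) rows_ok_run292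 rfl).step (b := 28128) rows_ok_run293 rfl).step (b := 28224) rows_ok_run294 rfl).step (b := 28320) rows_ok_run295 rfl).step (b := 28416) rows_ok_run296 rfl).step (b := 28512) rows_ok_run297 rfl).step (b := 28608) rows_ok_run298 rfl).step (b := 28704) rows_ok_run299 rfl).step (b := 28800) rows_ok_run300 rfl).step (b := 28896) rows_ok_run301 rfl).step (b := 28992) rows_ok_run302 rfl).step (b := 29088) rows_ok_run303 rfl).step (b := 29184) rows_ok_run304 rfl).step (b := 29280) rows_ok_run305 rfl).step (b := 29376) rows_ok_run306 rfl).step (b := 29472) rows_ok_run307 rfl).step (b := 29568) rows_ok_run308 rfl).step (b := 29664) rows_ok_run309 rfl).step (b := 29760) rows_ok_run310 rfl).step (b := 29856) rows_ok_run311 rfl).step (b := 29952) rows_ok_run312 rfl).step (b := 30048) rows_ok_run313 rfl).step (b := 30144) rows_ok_run314 rfl).step (b := 30240) rows_ok_run315 rfl).step (b := 30336) rows_ok_run316 rfl).step (b := 30432) rows_ok_run317 rfl).step (b := 30528) rows_ok_run318 rfl).step (b := 30624) rows_ok_run319 rfl).step (b := 30720) rows_ok_run320 rfl).step (b := 30816) rows_ok_run321 rfl).step (b := 30912) rows_ok_run322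 rfl).step (b := 31008) rows_ok_run323 rfl).step (b := 31104) rows_ok_run324 rfl).step (b := 31200) rows_ok_run325 rfl).step (b := 31296) rows_ok_run326 rfl).step (b := 31392) rows_ok_run327 rfl).step (b := 31488) rows_ok_run328 rfl).step (b := 31584) rows_ok_run329 rfl).step (b := 31671) rows_ok_run330 rfl

theorem orb1_ok_run1 : rangeAll (orb1.posOK tab cert.subs) 512 0 = true := by decide +kernel

theorem orb1_ok_run2 : rangeAll (orb1.posOK tab cert.subs) 512 512 = true := by decide +kernel

theorem orb1_ok_run3 : rangeAll (orb1.posOK tab cert.subs) 512 1024 = true := by decide +kernel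

theorem orb1_ok_run4 : rangeAll (orb1.posOK tab cert.subs) 512 1536 = true := by decide +kernel

theorem orb1_ok_run5 : rangeAll (orb1.posOK tab cert.subs) 512 2048 = true := by decide +kernel

theorem orb1_ok_run6 : rangeAll (orb1.posOK tab cert.subs) 512 2560 = true := by decide +kernel

theorem orb1_ok_run7 : rangeAll (orb1.posOK tab cert.subs) 438 3072 = true := by decide +kernel

theorem orb1_ok : Below (orb1.posOK tab cert.subs) 3510 :=
  (((((((Below.zero _).step (b := 512) orb1_ok_run1 rfl).step (b := 1024) orb1_ok_run2 rfl).step (b := 1536) orb1_ok_run3 rfl).step (b := 2048) orb1_ok_run4 rfl).step (b := 2560) orb1_ok_run5 rfl).step (b := 3072) orb1_ok_run6 rfl).step (b := 3510) orb1_ok_run7 rfl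

theorem orb2_ok_run1 : rangeAll (orb2.posOK tab cert.subs) 512 0 = true := by decide +kernel

theorem orb2_ok_run2 : rangeAll (orb2.posOK tab cert.subs) 512 512 = true := by decide +kernel

theorem orb2_ok_run3 : rangeAll (orb2.posOK tab cert.subs) 512 1024 = true := by decide +kernel

theorem orb2_ok_run4 : rangeAll (orb2.posOK tab cert.subs) 512 1536 = true := by decide +kernel

theorem orb2_ok_run5 : rangeAll (orb2.posOK tab cert.subs) 512 2048 = true := by decide +kernel

theorem orb2_ok_run6 : rangeAll (orb2.posOK tab cert.subs) 512 2560 = true := by decide +kernel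

theorem orb2_ok_run7 : rangeAll (orb2.posOK tab cert.subs) 512 3072 = true := by decide +kernel

theorem orb2_ok_run8 : rangeAll (orb2.posOK tab cert.subs) 512 3584 = true := by decide +kernel

theorem orb2_ok_run9 : rangeAll (orb2.posOK tab cert.subs) 512 4096 = true := by decide +kernel

theorem orb2_ok_run10 : rangeAll (orb2.posOK tab cert.subs) 512 4608 = true := by decide +kernel

theorem orb2_ok_run11 : rangeAll (orb2.posOK tab cert.subs) 512 5120 = true := by decide +kernel

theorem orb2_ok_run12 : rangeAll (orb2.posOK tab cert.subs) 512 5632 = true := by decide +kernel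

theorem orb2_ok_run13 : rangeAll (orb2.posOK tab cert.subs) 512 6144 = true := by decide +kernel

theorem orb2_ok_run14 : rangeAll (orb2.posOK tab cert.subs) 512 6656 = true := by decide +kernel

theorem orb2_ok_run15 : rangeAll (orb2.posOK tab cert.subs) 512 7168 = true := by decide +kernel

theorem orb2_ok_run16 : rangeAll (orb2.posOK tab cert.subs) 512 7680 = true := by decide +kernel

theorem orb2_ok_run17 : rangeAll (orb2.posOK tab cert.subs) 512 8192 = true := by decide +kernel

theorem orb2_ok_run18 : rangeAll (orb2.posOK tab cert.subs) 512 8704 = true := by decide +kernel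

theorem orb2_ok_run19 : rangeAll (orb2.posOK tab cert.subs) 512 9216 = true := by decide +kernel

theorem orb2_ok_run20 : rangeAll (orb2.posOK tab cert.subs) 512 9728 = true := by decide +kernel

theorem orb2_ok_run21 : rangeAll (orb2.posOK tab cert.subs) 512 10240 = true := by decide +kernel

theorem orb2_ok_run22 : rangeAll (orb2.posOK tab cert.subs) 512 10752 = true := by decide +kernel

theorem orb2_ok_run23 : rangeAll (orb2.posOK tab cert.subs) 512 11264 = true := by decide +kernel

theorem orb2_ok_run24 : rangeAll (orb2.posOK tab cert.subs) 512 11776 = true := by decide +kernel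

theorem orb2_ok_run25 : rangeAll (orb2.posOK tab cert.subs) 512 12288 = true := by decide +kernel

theorem orb2_ok_run26 : rangeAll (orb2.posOK tab cert.subs) 512 12800 = true := by decide +kernel

theorem orb2_ok_run27 : rangeAll (orb2.posOK tab cert.subs) 512 13312 = true := by decide +kernel

theorem orb2_ok_run28 : rangeAll (orb2.posOK tab cert.subs) 512 13824 = true := by decide +kernel

theorem orb2_ok_run29 : rangeAll (orb2.posOK tab cert.subs) 512 14336 = true := by decide +kernel

theorem orb2_ok_run30 : rangeAll (orb2.posOK tab cert.subs) 512 14848 = true := by decide +kernel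

theorem orb2_ok_run31 : rangeAll (orb2.posOK tab cert.subs) 512 15360 = true := by decide +kernel

theorem orb2_ok_run32 : rangeAll (orb2.posOK tab cert.subs) 512 15872 = true := by decide +kernel

theorem orb2_ok_run33 : rangeAll (orb2.posOK tab cert.subs) 512 16384 = true := by decide +kernel

theorem orb2_ok_run34 : rangeAll (orb2.posOK tab cert.subs) 512 16896 = true := by decide +kernel

theorem orb2_ok_run35 : rangeAll (orb2.posOK tab cert.subs) 512 17408 = true := by decide +kernel

theorem orb2_ok_run36 : rangeAll (orb2.posOK tab cert.subs) 512 17920 = true := by decide +kernel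

theorem orb2_ok_run37 : rangeAll (orb2.posOK tab cert.subs) 512 18432 = true := by decide +kernel

theorem orb2_ok_run38 : rangeAll (orb2.posOK tab cert.subs) 512 18944 = true := by decide +kernel

theorem orb2_ok_run39 : rangeAll (orb2.posOK tab cert.subs) 512 19456 = true := by decide +kernel

theorem orb2_ok_run40 : rangeAll (orb2.posOK tab cert.subs) 512 19968 = true := by decide +kernel

theorem orb2_ok_run41 : rangeAll (orb2.posOK tab cert.subs) 512 20480 = true := by decide +kernel

theorem orb2_ok_run42 : rangeAll (orb2.posOK tab cert.subs) 512 20992 = true := by decide +kernel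

theorem orb2_ok_run43 : rangeAll (orb2.posOK tab cert.subs) 512 21504 = true := by decide +kernel

theorem orb2_ok_run44 : rangeAll (orb2.posOK tab cert.subs) 512 22016 = true := by decide +kernel

theorem orb2_ok_run45 : rangeAll (orb2.posOK tab cert.subs) 512 22528 = true := by decide +kernel

theorem orb2_ok_run46 : rangeAll (orb2.posOK tab cert.subs) 512 23040 = true := by decide +kernel

theorem orb2_ok_run47 : rangeAll (orb2.posOK tab cert.subs) 512 23552 = true := by decide +kernel

theorem orb2_ok_run48 : rangeAll (orb2.posOK tab cert.subs) 512 24064 = true := by decide +kernel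

theorem orb2_ok_run49 : rangeAll (orb2.posOK tab cert.subs) 512 24576 = true := by decide +kernel

theorem orb2_ok_run50 : rangeAll (orb2.posOK tab cert.subs) 512 25088 = true := by decide +kernel

theorem orb2_ok_run51 : rangeAll (orb2.posOK tab cert.subs) 512 25600 = true := by decide +kernel

theorem orb2_ok_run52 : rangeAll (orb2.posOK tab cert.subs) 512 26112 = true := by decide +kernel

theorem orb2_ok_run53 : rangeAll (orb2.posOK tab cert.subs) 512 26624 = true := by decide +kernel

theorem orb2_ok_run54 : rangeAll (orb2.posOK tab cert.subs) 512 27136 = true := by decide +kernel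

theorem orb2_ok_run55 : rangeAll (orb2.posOK tab cert.subs) 512 27648 = true := by decide +kernel

theorem orb2_ok : Below (orb2.posOK tab cert.subs) 28160 :=
  (((((((((((((((((((((((((((((((((((((((((((((((((((((((Below.zero _).step (b := 512) orb2_ok_run1 rfl).step (b := 1024) orb2_ok_run2 rfl).step (b := 1536) orb2_ok_run3 rfl).step (b := 2048) orb2_ok_run4 rfl).step (b := 2560) orb2_ok_run5 rfl).step (b := 3072) orb2_ok_run6 rfl).step (b := 3584) orb2_ok_run7 rfl).step (b := 4096) orb2_ok_run8 rfl).step (b := 4608) orb2_ok_run9 rfl).step (b := 5120) orb2_ok_run10 rfl).step (b := 5632) orb2_ok_run11 rfl).step (b := 6144) orb2_ok_run12 rfl).step (b := 6656) orb2_ok_run13 rfl).step (b := 7168) orb2_ok_run14 rfl).step (b := 7680) orb2_ok_run15 rfl).step (b := 8192) orb2_ok_run16 rfl).step (b := 8704) orb2_ok_run17 rfl).step (b := 9216) orb2_ok_run18 rfl).step (b := 9728) orb2_ok_run19 rfl).step (b := 10240) orb2_ok_run20 rfl).step (b := 10752) orb2_ok_run21 rfl).step (b := 11264) orb2_ok_run22 rfl).step (b := 11776) orb2_ok_run23 rfl).step (b := 12288) orb2_ok_run24 rfl).step (b := 12800) orb2_ok_run25 rfl).step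 (b := 13312) orb2_ok_run26 rfl).step (b := 13824) orb2_ok_run27 rfl).step (b := 14336) orb2_ok_run28 rfl).step (b := 14848) orb2_ok_run29 rfl).step (b := 15360) orb2_ok_run30 rfl).step (b := 15872) orb2_ok_run31 rfl).step (b := 16384) orb2_ok_run32 rfl).step (b := 16896) orb2_ok_run33 rfl).step (b := 17408) orb2_ok_run34 rfl).step (b := 17920) orb2_ok_run35 rfl).step (b := 18432) orb2_ok_run36 rfl).step (b := 18944) orb2_ok_run37 rfl).step (b := 19456) orb2_ok_run38 rfl).step (b := 19968) orb2_ok_run39 rfl).step (b := 20480) orb2_ok_run40 rfl).step (b := 20992) orb2_ok_run41 rfl).step (b := 21504) orb2_ok_run42 rfl).step (b := 22016) orb2_ok_run43 rfl).step (b := 22528) orb2_ok_run44 rfl).step (b := 23040) orb2_ok_run45 rfl).step (b := 23552) orb2_ok_run46 rfl).step (b := 24064) orb2_ok_run47 rfl).step (b := 24576) orb2_ok_run48 rfl).step (b := 25088) orb2_ok_run49 rfl).step (b := 25600) orb2_ok_run50 rfl).step (b := 26112) orb2_ok_run51 rfl).step (b := 26624) orb2_ok_run52 rfl).step (b := 27136) orb2_ok_run53 rfl).step (b := 27648) orb2_ok_run54 rfl).step (b := 28160) orb2_ok_run55 rfl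

end Cfsg.Agent.Lib.CosetTable.Fi23m
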